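import Mathlib
import Cfsg.Prelude.Def_LocalStructure

set_option autoImplicit false

namespace Cfsg.Agent.Lib.Helper42.PCAff

/-- multiplication by the units in a subgroup `U` as automorphisms of `Multiplicative F` -/
def phi (F : Type) [Field F] (U : Subgroup Fˣ) : ↥U →* MulAut (Multiplicative F) where
  toFun u := AddEquiv.toMultiplicative (DistribMulAction.toAddEquiv F (u : Fˣ))
  map_one' := by
    ext x
    show Multiplicative.ofAdd (((1 : ↥U) : Fˣ) • Multiplicative.toAdd x) = x
    rw [Subgroup.coe_one, one_smul]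
    rfl
  map_mul' u v := by
    ext x
    show Multiplicative.ofAdd (((u * v : ↥U) : Fˣ) • Multiplicative.toAdd x) =
      Multiplicative.ofAdd ((u : Fˣ) • ((v : Fˣ) • Multiplicative.toAdd x))
    rw [Subgroup.coe_mul, mul_smul]

theorem phi_apply (F : Type) [Field F] (U : Subgroup Fˣ) (u : ↥U) (x : F) :
    phi F U u (Multiplicative.ofAdd x) = Multiplicative.ofAdd ((u : Fˣ) • x) := rfl

end Cfsg.Agent.Lib.Helper42.PCAff

namespace Cfsg.Agent.Lib.Helper10.PC

open Cfsg Cfsg.Agent.Lib.Helper42.PCAff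

/-- PC-EXA -/
theorem exists_affine (p q a : ℕ) [Fact p.Prime] (hq : q.Prime) (ha : 0 < a)
    (hqa : q ^ a % p = 1) :
    ∃ (H : Type) (_ : Group H) (_ : Finite H), Nat.card H = p * q ^ a ∧ ¬ IsPClosed p H := by
  have hp : p.Prime := Fact.out
  have : Fact q.Prime := ⟨hq⟩
  have hcardF : Nat.card (GaloisField q a) = q ^ a := GaloisField.card q a ha.ne'
  have hFin : Finite (GaloisField q a) := Nat.finite_of_card_ne_zero (by
    rw [hcardF]; exact pow_ne_zero _ hq.pos.ne')
  have hpq : p ≠ q := by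
    rintro rfl
    have : p ^ a % p = 0 := Nat.mod_eq_zero_of_dvd (dvd_pow_self p ha.ne')
    omega
  -- an element of order `p` in the multiplicative group
  have hdvd : p ∣ Nat.card (GaloisField q a)ˣ := by
    rw [Nat.card_units, hcardF]
    have h1 : 1 ≤ q ^ a := Nat.one_le_pow _ _ hq.pos
    have h2 : 1 ≡ q ^ a [MOD p] := by
      show 1 % p = q ^ a % p
      rw [hqa, Nat.mod_eq_of_lt hp.one_lt]
    exact (Nat.modEq_iff_dvd' h1).mp h2
  obtain ⟨ζ, hζ⟩ := exists_prime_orderOf_dvd_card' p hdvd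
  let U : Subgroup (GaloisField q a)ˣ := Subgroup.zpowers ζ
  have hcardU : Nat.card ↥U = p := by rw [Nat.card_zpowers, hζ]
  let H : Type := Multiplicative (GaloisField q a) ⋊[phi (GaloisField q a) U] ↥U
  have hcardH : Nat.card H = p * q ^ a := by
    show Nat.card (Multiplicative (GaloisField q a) ⋊[phi (GaloisField q a) U] ↥U) = _
    rw [SemidirectProduct.card, hcardU, Nat.card_congr Multiplicative.toAdd, hcardF, mul_comm]
  have hFinH : Finite H := Nat.finite_of_card_ne_zero (by
    rw [hcardH]; exact mul_ne_zero hp.pos.ne' (pow_ne_zero _ hq.pos.ne'))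
  refine ⟨H, inferInstance, hFinH, hcardH, ?_⟩
  intro hcl
  let u₀ : ↥U := ⟨ζ, Subgroup.mem_zpowers ζ⟩
  let g : H := SemidirectProduct.inr u₀
  let ν : Multiplicative (GaloisField q a) := Multiplicative.ofAdd 1
  let n : H := SemidirectProduct.inl ν
  have hg_ord : orderOf g = p := by
    show orderOf (SemidirectProduct.inr u₀ : H) = p
    rw [orderOf_injective (SemidirectProduct.inr : ↥U →* H) SemidirectProduct.inr_injective u₀,
      ← hζ]
    exact Subgroup.orderOf_mk ζ _
  have hgp : IsPGroup p ↥(Subgroup.zpowers g) := by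
    apply IsPGroup.of_card (n := 1)
    rw [Nat.card_zpowers, hg_ord, pow_one]
  obtain ⟨P, hP⟩ := hgp.exists_le_sylow
  have hPn : (P : Subgroup H).Normal := hcl P
  have hgP : g ∈ (P : Subgroup H) := hP (Subgroup.mem_zpowers g)
  have hcP : n * g * n⁻¹ * g⁻¹ ∈ (P : Subgroup H) :=
    Subgroup.mul_mem _ (hPn.conj_mem g hgP n) (Subgroup.inv_mem _ hgP)
  -- the commutator is in the image of `inl`
  have hc : n * g * n⁻¹ * g⁻¹ =
      (SemidirectProduct.inl (ν * phi (GaloisField q a) U u₀ ν⁻¹) : H) := by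
    have h1 : (SemidirectProduct.inl (phi (GaloisField q a) U u₀ ν⁻¹) : H) =
        g * n⁻¹ * g⁻¹ := by
      rw [SemidirectProduct.inl_aut]
      show SemidirectProduct.inr u₀ * SemidirectProduct.inl ν⁻¹ * SemidirectProduct.inr u₀⁻¹ =
        SemidirectProduct.inr u₀ * (SemidirectProduct.inl ν)⁻¹ * (SemidirectProduct.inr u₀)⁻¹
      rw [map_inv, map_inv]
    have h0 : (SemidirectProduct.inl (ν * phi (GaloisField q a) U u₀ ν⁻¹) : H) =
        n * SemidirectProduct.inl (phi (GaloisField q a) U u₀ ν⁻¹) := map_mul _ _ _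
    rw [h0, h1]
    group
  -- its order divides both a power of `p` and `q ^ a`
  have hc1 : n * g * n⁻¹ * g⁻¹ = 1 := by
    obtain ⟨j, hj⟩ := (IsPGroup.iff_orderOf.mp P.isPGroup') ⟨_, hcP⟩
    rw [Subgroup.orderOf_mk] at hj
    have h2 : orderOf (n * g * n⁻¹ * g⁻¹) ∣ q ^ a := by
      rw [hc, orderOf_injective (SemidirectProduct.inl : _ →* H) SemidirectProduct.inl_injective,
        ← hcardF, ← Nat.card_congr (Multiplicative.toAdd (α := GaloisField q a))]
      exact orderOf_dvd_natCard _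
    rw [hj] at h2
    have hcop : Nat.Coprime (p ^ j) (q ^ a) :=
      Nat.Coprime.pow _ _ ((Nat.coprime_primes hp hq).mpr hpq)
    have h3 : p ^ j = 1 := Nat.Coprime.eq_one_of_dvd hcop h2
    rw [h3] at hj
    exact orderOf_eq_one_iff.mp hj
  rw [hc] at hc1
  have h4 : ν * phi (GaloisField q a) U u₀ ν⁻¹ = 1 :=
    SemidirectProduct.inl_injective (by rw [hc1, map_one])
  have h5 : phi (GaloisField q a) U u₀ ν = ν := by
    have h6 : phi (GaloisField q a) U u₀ ν⁻¹ = ν⁻¹ := by
      rw [← mul_right_inj ν, h4, mul_inv_cancel]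
    rw [map_inv, inv_inj] at h6
    exact h6
  have h7 : (ζ : GaloisField q a) = 1 := by
    have h8 : Multiplicative.ofAdd ((u₀ : (GaloisField q a)ˣ) • (1 : GaloisField q a)) =
        Multiplicative.ofAdd (1 : GaloisField q a) := h5
    have h9 := Multiplicative.ofAdd.injective h8
    rw [Units.smul_def, smul_eq_mul, mul_one] at h9
    exact h9
  have h10 : ζ = 1 := Units.ext h7
  rw [h10, orderOf_one] at hζ
  exact hp.one_lt.ne hζ

end Cfsg.Agent.Lib.Helper10.PC
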