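import Mathlib
import Cfsg.Prelude.Def_LocalStructure
import Cfsg.Agent.Lib.Helper6.PSLCard

set_option autoImplicit false

namespace Cfsg.Agent.Lib.Helper10.PC

open Cfsg

/-- PC-EXP -/
theorem exists_psl (p : ℕ) [Fact p.Prime] (hp5 : 5 ≤ p) :
    ∃ (H : Type) (_ : Group H) (_ : Finite H),
      Nat.card H = p * (p ^ 2 - 1) / 2 ∧ ¬ IsPClosed p H := by
  have hp : p.Prime := Fact.out
  have hodd : p % 2 = 1 := by
    rcases hp.eq_two_or_odd with h | h
    · omega
    · exact h
  obtain ⟨m, hm⟩ : ∃ m, p = 2 * m + 1 := ⟨p / 2, by omega⟩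
  have hcard0 := Cfsg.Agent.Lib.Helper6.card_psl (F := ZMod p) (ZMod.card p) 2 (by norm_num)
  rw [Fin.prod_univ_two] at hcard0
  simp only [Fin.val_zero, Fin.val_one, pow_zero, pow_one] at hcard0
  have hg : Nat.gcd 2 (p - 1) = 2 := Nat.gcd_eq_left (by omega)
  rw [hg] at hcard0
  have h2N : 2 * Nat.card (Matrix.ProjectiveSpecialLinearGroup (Fin 2) (ZMod p)) =
      p * (p ^ 2 - 1) := by
    have e1 : p ^ 2 - p = p * (p - 1) := by rw [pow_two, Nat.mul_sub_one]
    rw [e1] at hcard0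
    have hpos : 0 < p - 1 := by omega
    apply Nat.eq_of_mul_eq_mul_left hpos
    calc (p - 1) * (2 * Nat.card (Matrix.ProjectiveSpecialLinearGroup (Fin 2) (ZMod p)))
        = 2 * ((p - 1) * Nat.card (Matrix.ProjectiveSpecialLinearGroup (Fin 2) (ZMod p))) := by
          ring
      _ = (p ^ 2 - 1) * (p * (p - 1)) := hcard0
      _ = (p - 1) * (p * (p ^ 2 - 1)) := by ring
  have hNeq : Nat.card (Matrix.ProjectiveSpecialLinearGroup (Fin 2) (ZMod p)) =
      p * (p ^ 2 - 1) / 2 := (Nat.div_eq_of_eq_mul_right two_pos h2N.symm).symm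
  refine ⟨Matrix.ProjectiveSpecialLinearGroup (Fin 2) (ZMod p), inferInstance, inferInstance,
    hNeq, ?_⟩
  intro hcl
  have hsimple : IsSimpleGroup (Matrix.ProjectiveSpecialLinearGroup (Fin 2) (ZMod p)) :=
    Matrix.ProjectiveSpecialLinearGroup.rank_two_simple (by rw [Nat.card_zmod]; omega)
  let P : Sylow p (Matrix.ProjectiveSpecialLinearGroup (Fin 2) (ZMod p)) := default
  have hPn := hcl P
  rcases hPn.eq_bot_or_eq_top with hb | ht
  · have hdvd : p ∣ Nat.card (Matrix.ProjectiveSpecialLinearGroup (Fin 2) (ZMod p)) := by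
      have h1 : p ∣ 2 * Nat.card (Matrix.ProjectiveSpecialLinearGroup (Fin 2) (ZMod p)) := by
        rw [h2N]; exact dvd_mul_right _ _
      rcases hp.dvd_mul.mp h1 with h | h
      · have := Nat.le_of_dvd two_pos h
        omega
      · exact h
    exact P.ne_bot_of_dvd_card hdvd hb
  · obtain ⟨n, hn⟩ := IsPGroup.iff_card.mp P.isPGroup'
    rw [ht, Subgroup.card_top] at hn
    have hodd' : Odd (p ^ n) := (Nat.odd_iff.mpr hodd).pow
    have e2 : p ^ 2 - 1 = 4 * (m * (m + 1)) := by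
      apply Nat.sub_eq_of_eq_add
      rw [hm]; ring
    have heven : Even (Nat.card (Matrix.ProjectiveSpecialLinearGroup (Fin 2) (ZMod p))) := by
      refine ⟨p * (m * (m + 1)), ?_⟩
      apply Nat.eq_of_mul_eq_mul_left two_pos
      rw [h2N, e2]; ring
    rw [hn] at heven
    exact (Nat.not_even_iff_odd.mpr hodd') heven

end Cfsg.Agent.Lib.Helper10.PC
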