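import Mathlib
import Cfsg.Agent.Lib.Helper15.BG13CDefs
import Cfsg.Agent.S1411
import Cfsg.Agent.S0055

/-!
# B&G Corollary 13.3(b) (row S1428), piece C-BURN (for helper15)

Burnside for an abelian Sylow subgroup `Q` of a minimal simple group of odd order:
`Q ∩ Z(N_G(Q)) = 1`.
-/

set_option autoImplicit false

open Cfsg Cfsg.Agent.Lib.Helper32 Cfsg.Agent.Lib.Helper32.BG10 Cfsg.Agent.Lib.Helper3.BG12

namespace Cfsg.Agent.Lib.Helper15.BG13C

universe u

variable {G : Type u} [Group G] [Finite G]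

theorem burn : BurnStmt G := by
  intro hG q hq Q hQ hQc
  have : Fact q.Prime := hq
  have : IsMulCommutative Q := hQc
  have hcard : Nat.card Q = q ^ (Nat.card G).factorization q := by
    have h0 := hQ.2
    rwa [Subgroup.card_top] at h0
  obtain ⟨N, hN⟩ : ∃ N : Subgroup G, N = Subgroup.normalizer (Q : Set G) := ⟨_, rfl⟩
  rw [← hN]
  have hQN : Q ≤ N := by
    rw [hN]
    exact Subgroup.le_normalizer
  have hnorm : (Q.subgroupOf N).Normal := by
    rw [hN]
    exact Subgroup.normal_in_normalizer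
  have h1 : Nat.card (Q.subgroupOf N) = Nat.card Q :=
    Nat.card_congr (Subgroup.subgroupOfEquivOfLe hQN).toEquiv
  have h3 : (Nat.card Q).Coprime Q.index := (Sylow.ofCard Q hcard).card_coprime_index
  have hcop : (Nat.card (Q.subgroupOf N)).Coprime (Q.subgroupOf N).index := by
    have h2 : (Q.subgroupOf N).index ∣ Q.index := by
      show Q.relIndex N ∣ Q.index
      exact Dvd.intro _ (Subgroup.relIndex_mul_index hQN)
    rw [h1]
    exact Nat.Coprime.coprime_dvd_right h2 h3
  obtain ⟨V0, hV0⟩ := Subgroup.exists_right_complement'_of_coprime hcop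
  have hVN : V0.map N.subtype ≤ N := Subgroup.map_subtype_le _
  have hV : IsComplIn Q (V0.map N.subtype) N := by
    refine ⟨hQN, hVN, ?_, ?_⟩
    · rw [eq_bot_iff]
      rintro x ⟨hxQ, ⟨k, hk, rfl⟩⟩
      have h4 : k ∈ Q.subgroupOf N ⊓ V0 := ⟨Subgroup.mem_subgroupOf.mpr hxQ, hk⟩
      rw [hV0.disjoint.eq_bot, Subgroup.mem_bot] at h4
      rw [Subgroup.mem_bot, h4]
      rfl
    · intro m hm
      obtain ⟨⟨s, k⟩, hsk⟩ := hV0.2 (⟨m, hm⟩ : ↥N)
      refine ⟨s.1.1, Subgroup.mem_subgroupOf.mp s.2, k.1.1, ⟨k.1, k.2, rfl⟩, ?_⟩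
      have h5 := congrArg Subtype.val hsk
      simpa using h5.symm
  have hV' : IsComplIn Q (V0.map N.subtype) (Subgroup.normalizer (Q : Set G)) := by
    rw [← hN]
    exact hV
  have h1411 : Q = ⁅Q, V0.map N.subtype⁆ :=
    (Cfsg.Agent.S1411.result hG q (Sylow.ofCard Q hcard) (V0.map N.subtype) hV').1
  have hVcard : Nat.card (V0.map N.subtype) = (Q.subgroupOf N).index := by
    rw [Subgroup.card_map_of_injective N.subtype_injective]
    exact hV0.symm.index_eq_card.symm
  have hcop2 : (Nat.card (V0.map N.subtype)).Coprime (Nat.card Q) := by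
    rw [hVcard, ← h1]
    exact hcop.symm
  have hVnorm : V0.map N.subtype ≤ Subgroup.normalizer (Q : Set G) := by
    rw [← hN]
    exact hVN
  have h55 := (Cfsg.Agent.S0055.result (V0.map N.subtype) Q hVnorm hcop2).1
  rw [eq_bot_iff]
  rintro x ⟨hxQ, hxC⟩
  rw [← h55]
  refine ⟨⟨hxQ, ?_⟩, ?_⟩
  · exact Subgroup.centralizer_le hVN hxC
  · rw [← h1411]
    exact hxQ

end Cfsg.Agent.Lib.Helper15.BG13C
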