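import Cfsg.Agent.Lib.Helper61.F15Defs

set_option autoImplicit false

namespace Cfsg.Agent.Lib.Helper42.F15

open Cfsg Cfsg.Agent.Lib.Helper11 Cfsg.Agent.Lib.Helper61.F15

variable {G : Type*} [Group G] {D : Set G}

/-- S1615 piece P11: a member of `D` commuting with the product of two non-commuting members
commutes with both. -/
theorem comm_prod (hD : IsThreeTranspositionClass D) {u p q : G} (hu : u ∈ D) (hp : p ∈ D)
    (hq : q ∈ D) (hpq : ¬ Commute p q) (h : Commute u (p * q)) : Commute u p ∧ Commute u q := by
  have huu := tt_sq hD hu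
  have hpp := tt_sq hD hp
  have hqq := tt_sq hD hq
  have hup : Commute u p := by
    by_contra hup
    have hbr : u * p * u = p * u * p := (tt_braid hD hu hp hup).1
    have h1 : u * (p * q) = (p * q) * u := h
    have h3 : u * q * u = p * u * q := by
      calc u * q * u = u * (p * p) * q * u := by rw [hpp, mul_one]
        _ = u * p * (p * q * u) := by group
        _ = u * p * (u * (p * q)) := by rw [← h1]
        _ = (u * p * u) * p * q := by group
        _ = (p * u * p) * p * q := by rw [hbr]
        _ = p * u * (p * p) * q := by group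
        _ = p * u * q := by rw [hpp, mul_one]
    have h2 : p = u * q * u * q * u := by
      calc p = p * (u * (q * q) * u) := by rw [hqq, mul_one, huu, mul_one]
        _ = (p * u * q) * q * u := by group
        _ = u * q * u * q * u := by rw [← h3]
    by_cases huq : Commute u q
    · have e : u * q = q * u := huq
      have hpu : p = u := by
        rw [h2]
        calc u * q * u * q * u = u * (q * u) * q * u := by group
          _ = u * (u * q) * q * u := by rw [e]
          _ = (u * u) * (q * q) * u := by group
          _ = u := by rw [huu, hqq, one_mul, one_mul]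
      apply hup
      rw [hpu]
    · have hbr2 : u * q * u = q * u * q := (tt_braid hD hu hq huq).1
      have hpq' : p = q := by
        rw [h2, hbr2]
        calc q * u * q * q * u = q * u * (q * q) * u := by group
          _ = q * (u * u) := by rw [hqq]; group
          _ = q := by rw [huu, mul_one]
      apply hpq
      rw [hpq']
  refine ⟨hup, ?_⟩
  have hq' : q = p * (p * q) := by rw [← mul_assoc, hpp, one_mul]
  rw [hq']
  exact hup.mul_right h

/-- a conjugation-stable finite set on which an element of order dividing `3 ^ n` acts without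
fixed points has cardinality divisible by `3`; more generally the cardinality is congruent to
the number of fixed points. -/
theorem three_dvd_ncard_of_conj [Finite G] {S : Set G} {t : G} {n : ℕ} (ht : t ^ 3 ^ n = 1)
    (hS : ∀ r ∈ S, t * r * t⁻¹ ∈ S) (hfix : ∀ r ∈ S, t * r * t⁻¹ ≠ r) : 3 ∣ S.ncard := by
  classical
  have : Fintype ↥S := Fintype.ofFinite _
  have : Fact (Nat.Prime 3) := ⟨Nat.prime_three⟩
  let f : Function.End ↥S := fun r => ⟨t * r.1 * t⁻¹, hS r.1 r.2⟩
  have hpow : ∀ (m : ℕ) (r : ↥S), ((f ^ m) r : G) = t ^ m * r.1 * (t ^ m)⁻¹ := by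
    intro m
    induction m with
    | zero => intro r; simp; rfl
    | succ m ih =>
      intro r
      rw [pow_succ']
      show (f ((f ^ m) r) : G) = _
      show t * ((f ^ m) r : G) * t⁻¹ = _
      rw [ih r, pow_succ']
      group
  have hf : f ^ 3 ^ n = 1 := by
    funext r
    apply Subtype.ext
    rw [hpow, ht]
    simp
    rfl
  have hmod := Equiv.Perm.card_fixedPoints_modEq (p := 3) (n := n) hf
  have hempty : IsEmpty ↥(Function.fixedPoints f) := by
    constructor
    rintro ⟨r, hr⟩
    have h1 : f r = r := hr
    have h2 : (f r : G) = t * r.1 * t⁻¹ := rfl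
    exact hfix r.1 r.2 (by rw [← h2, h1])
  have h0 : Fintype.card ↥(Function.fixedPoints f) = 0 := Fintype.card_eq_zero_iff.mpr hempty
  rw [h0] at hmod
  have hc : S.ncard = Fintype.card ↥S := by
    rw [← Nat.card_coe_set_eq, Nat.card_eq_fintype_card]
  rw [hc]
  exact (Nat.modEq_zero_iff_dvd).mp hmod

/-- S1615 piece P12: if `a` has two distinct neighbours (and the commuting graph has no
triangle) then the number of neighbours of `a` is divisible by `3`. -/
theorem card_mod3 [Finite G] (hD : IsThreeTranspositionClass D) (hcoc : Coc D) {a : G}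
    (ha : a ∈ D) (h2 : ∃ p q, p ∈ Dn D a ∧ q ∈ Dn D a ∧ p ≠ q) : 3 ∣ (Dn D a).ncard := by
  obtain ⟨p, q, hp, hq, hne⟩ := h2
  have hpq : ¬ Commute p q := fun hc =>
    hcoc p hp.1 q hq.1 a ha hne (Ne.symm hp.2.1) (Ne.symm hq.2.1) hc hp.2.2 hq.2.2
  have ht3 : (p * q) ^ 3 ^ 1 = 1 := by
    rw [pow_one]
    exact (tt_braid hD hp.1 hq.1 hpq).2
  have hta : Commute a (p * q) := hp.2.2.mul_right hq.2.2
  apply three_dvd_ncard_of_conj ht3
  · intro r hr
    refine ⟨tt_conj_mem hD hr.1 _, ?_, ?_⟩
    · intro e
      apply hr.2.1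
      have e2 : r = (p * q)⁻¹ * a * (p * q) := by rw [← e]; group
      rw [e2]
      have e3 : a * (p * q) = (p * q) * a := hta
      calc (p * q)⁻¹ * a * (p * q) = (p * q)⁻¹ * (a * (p * q)) := by group
        _ = (p * q)⁻¹ * ((p * q) * a) := by rw [e3]
        _ = a := by group
    · exact (hta.mul_right hr.2.2).mul_right hta.inv_right
  · intro r hr e
    have hc : Commute r (p * q) := by
      show r * (p * q) = (p * q) * r
      calc r * (p * q) = ((p * q) * r * (p * q)⁻¹) * (p * q) := by rw [e]
        _ = (p * q) * r := by group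
    obtain ⟨hrp, hrq⟩ := comm_prod hD hr.1 hp.1 hq.1 hpq hc
    have e1 : r = p := by
      by_contra hne1
      exact hcoc r hr.1 p hp.1 a ha hne1 (Ne.symm hr.2.1) (Ne.symm hp.2.1) hrp hr.2.2 hp.2.2
    have e2 : r = q := by
      by_contra hne2
      exact hcoc r hr.1 q hq.1 a ha hne2 (Ne.symm hr.2.1) (Ne.symm hq.2.1) hrq hr.2.2 hq.2.2
    exact hne (e1.symm.trans e2)

end Cfsg.Agent.Lib.Helper42.F15
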