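import Mathlib
import Cfsg.Agent.Lib.Helper4.FCDefs

/-!
Project FC (helper4, for S4146), piece LFDEC: in `G = A ⋊ H` with `A` a normal abelian Hall
subgroup, every element is conjugate to `y x` with `y ∈ A`, `x ∈ H` commuting of coprime orders.
-/

set_option autoImplicit false

namespace Cfsg.Agent.Lib.Helper4.FC

universe u

theorem lfdec_helper42_cs_conj {G : Type u} [Group G] (a g : G) :
    cs (a * g * a⁻¹) = cs g := by
  have h : Cen (a * g * a⁻¹) = (Cen g).map ((MulAut.conj a : G ≃* G) : G →* G) := by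
    ext z
    rw [Subgroup.mem_map]
    constructor
    · intro hz
      rw [Subgroup.mem_centralizer_iff] at hz
      have hz' := hz (a * g * a⁻¹) (Set.mem_singleton _)
      refine ⟨a⁻¹ * z * a, ?_, ?_⟩
      · rw [Subgroup.mem_centralizer_iff]
        intro h hh
        rw [Set.mem_singleton_iff] at hh
        rw [hh]
        have e : a⁻¹ * (a * g * a⁻¹ * z) * a = a⁻¹ * (z * (a * g * a⁻¹)) * a := by rw [hz']
        calc g * (a⁻¹ * z * a) = a⁻¹ * (a * g * a⁻¹ * z) * a := by group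
          _ = a⁻¹ * (z * (a * g * a⁻¹)) * a := e
          _ = a⁻¹ * z * a * g := by group
      · change a * (a⁻¹ * z * a) * a⁻¹ = z
        group
    · rintro ⟨w, hw, rfl⟩
      rw [Subgroup.mem_centralizer_iff] at hw ⊢
      intro h hh
      rw [Set.mem_singleton_iff] at hh
      rw [hh]
      have hw' := hw g (Set.mem_singleton _)
      change a * g * a⁻¹ * (a * w * a⁻¹) = a * w * a⁻¹ * (a * g * a⁻¹)
      calc a * g * a⁻¹ * (a * w * a⁻¹) = a * (g * w) * a⁻¹ := by group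
        _ = a * (w * g) * a⁻¹ := by rw [hw']
        _ = a * w * a⁻¹ * (a * g * a⁻¹) := by group
  change (Cen (a * g * a⁻¹)).index = (Cen g).index
  rw [h]
  exact Subgroup.index_map_equiv (Cen g) (MulAut.conj a)

theorem lfdec_helper42_orderOf_conj {G : Type u} [Group G] (a g : G) :
    orderOf (a * g * a⁻¹) = orderOf g :=
  (MulAut.conj a).orderOf_eq g

/-- PIECE LFDEC -/
theorem fc_lfdec : ConjHStmt.{u} → LFDecStmt.{u} := by
  intro hconj G _ _ A H g hAn hAab hcop hAH hAH'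
  have hcard : Nat.card A * A.index = Nat.card G := Subgroup.card_mul_index A
  have hbez : ((Nat.gcd (Nat.card A) A.index : ℕ) : ℤ)
      = (Nat.card A : ℤ) * Nat.gcdA (Nat.card A) A.index
        + (A.index : ℤ) * Nat.gcdB (Nat.card A) A.index := Nat.gcd_eq_gcd_ab _ _
  rw [Nat.Coprime] at hcop
  rw [hcop] at hbez
  obtain ⟨ca, hca⟩ : ∃ ca : ℤ, ca = Nat.gcdA (Nat.card A) A.index := ⟨_, rfl⟩
  obtain ⟨cb, hcb⟩ : ∃ cb : ℤ, cb = Nat.gcdB (Nat.card A) A.index := ⟨_, rfl⟩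
  rw [← hca, ← hcb] at hbez
  -- the two parts
  obtain ⟨g₁, hg₁⟩ : ∃ g₁ : G, g₁ = (g ^ A.index) ^ cb := ⟨_, rfl⟩
  obtain ⟨g₂, hg₂⟩ : ∃ g₂ : G, g₂ = (g ^ Nat.card A) ^ ca := ⟨_, rfl⟩
  have hg₁A : g₁ ∈ A := by
    rw [hg₁]
    exact A.zpow_mem (A.pow_index_mem g) cb
  have hprod : g₁ * g₂ = g := by
    rw [hg₁, hg₂, ← zpow_natCast, ← zpow_natCast, ← zpow_mul, ← zpow_mul, ← zpow_add,
      add_comm, ← hbez]
    simp
  have hprod' : g₂ * g₁ = g := by
    rw [hg₁, hg₂, ← zpow_natCast, ← zpow_natCast, ← zpow_mul, ← zpow_mul, ← zpow_add, ← hbez]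
    simp
  have ho1 : orderOf g₁ ∣ Nat.card A := by
    apply orderOf_dvd_of_pow_eq_one
    have h1 : ((⟨g₁, hg₁A⟩ : A) ^ Nat.card A : A) = 1 := pow_card_eq_one'
    have h2 := congrArg Subtype.val h1
    rw [Subgroup.coe_pow] at h2
    exact h2
  have ho2 : orderOf g₂ ∣ A.index := by
    apply orderOf_dvd_of_pow_eq_one
    rw [hg₂, ← zpow_natCast, ← zpow_natCast, ← zpow_mul, ← zpow_mul]
    have e : ((Nat.card A : ℤ) * ca * (A.index : ℤ)) = ((Nat.card A * A.index : ℕ) : ℤ) * ca := by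
      push_cast; ring
    have e' : ((Nat.card A : ℤ) * (ca * (A.index : ℤ))) = ((Nat.card A * A.index : ℕ) : ℤ) * ca := by
      push_cast; ring
    first
      | rw [e, hcard, zpow_mul, zpow_natCast, pow_card_eq_one', one_zpow]
      | rw [e', hcard, zpow_mul, zpow_natCast, pow_card_eq_one', one_zpow]
  have hcop' : (Nat.card A).Coprime A.index := hcop
  have hcop2 : (orderOf g₂).Coprime (Nat.card A) :=
    Nat.Coprime.coprime_dvd_left ho2 hcop'.symm
  obtain ⟨a, haA, hax⟩ := hconj G A H g₂ hAn hAab hAH hAH' hcop2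
  refine ⟨a * g₁ * a⁻¹, a * g₂ * a⁻¹, hAn.conj_mem g₁ hg₁A a, hax, ?_, ?_, ?_⟩
  · calc a * g₁ * a⁻¹ * (a * g₂ * a⁻¹) = a * (g₁ * g₂) * a⁻¹ := by group
      _ = a * (g₂ * g₁) * a⁻¹ := by rw [hprod, hprod']
      _ = a * g₂ * a⁻¹ * (a * g₁ * a⁻¹) := by group
  · rw [lfdec_helper42_orderOf_conj, lfdec_helper42_orderOf_conj]
    exact Nat.Coprime.coprime_dvd_left ho1 (Nat.Coprime.coprime_dvd_right ho2 hcop')
  · have e : a * g₁ * a⁻¹ * (a * g₂ * a⁻¹) = a * g * a⁻¹ := by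
      calc a * g₁ * a⁻¹ * (a * g₂ * a⁻¹) = a * (g₁ * g₂) * a⁻¹ := by group
        _ = a * g * a⁻¹ := by rw [hprod]
    rw [e]
    exact lfdec_helper42_cs_conj a g

end Cfsg.Agent.Lib.Helper4.FC
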