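import Mathlib
import Cfsg.Agent.Lib.Helper62.MargDefs
import Cfsg.Agent.Lib.Helper62.MargPerm

/-!
# S3620, piece MG-G: the alternating group on `Γ` is transitive on `k`-subsets
-/

set_option autoImplicit false
set_option linter.style.haveILetI false

namespace Cfsg.Agent.Lib.Helper62.Marg

open MulAction
open scoped Pointwise

variable {G : Type*} {Ω : Type*} [Group G] [MulAction G Ω]

theorem mgG_exists_perm_image_eq {α : Type*} [Finite α] (s s' : Set α)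
    (hcard : s.ncard = s'.ncard) : ∃ σ : Equiv.Perm α, σ '' s = s' := by
  classical
  have h1 : Nat.card ↥s = Nat.card ↥s' := by
    rw [Nat.card_coe_set_eq, Nat.card_coe_set_eq, hcard]
  obtain ⟨e⟩ := Finite.card_eq.mp h1
  let e' : {x // x ∈ s} ≃ {x // x ∈ s'} := e
  refine ⟨e'.extendSubtype, ?_⟩
  apply Set.eq_of_subset_of_ncard_le
  · rintro y ⟨x, hx, rfl⟩
    exact e'.extendSubtype_mem x hx
  · rw [Set.ncard_image_of_injective _ (Equiv.injective _), hcard]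
  · exact Set.toFinite _

theorem alt_exists_image_eq {α : Type*} [Fintype α] [DecidableEq α] (s s' : Set α)
    (hcard : s.ncard = s'.ncard) (h2 : 2 ≤ sᶜ.ncard) :
    ∃ σ ∈ alternatingGroup α, σ '' s = s' := by
  obtain ⟨σ₀, hσ₀⟩ := mgG_exists_perm_image_eq s s' hcard
  rcases Int.units_eq_one_or (Equiv.Perm.sign σ₀) with h | h
  · exact ⟨σ₀, Equiv.Perm.mem_alternatingGroup.mpr h, hσ₀⟩
  · obtain ⟨a, b, ha, hb, hab⟩ := (Set.one_lt_ncard_iff (Set.toFinite _)).mp h2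
    refine ⟨σ₀ * Equiv.swap a b, Equiv.Perm.mem_alternatingGroup.mpr ?_, ?_⟩
    · rw [Equiv.Perm.sign_mul, h, Equiv.Perm.sign_swap hab]
      rfl
    · rw [← hσ₀]
      apply Set.image_congr
      intro x hx
      rw [Equiv.Perm.mul_apply, Equiv.swap_apply_of_ne_of_ne]
      · rintro rfl; exact ha hx
      · rintro rfl; exact hb hx

theorem exists_smul_eq_of_act3 [Finite Ω] {Γ : Set Ω}
    (h2t : ∀ Z : Set Ω, Z ⊆ Γ → Z.ncard ≤ 1 → ∀ a ∈ Γ \ Z, ∀ b ∈ Γ \ Z,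
      ∃ g : G, g • Γ = Γ ∧ (∀ z ∈ Z, g • z = z) ∧ g • a = b)
    (h3 : ∃ g : stabilizer G Γ, Act3 (Ω := Γ) g)
    {E E' : Set Ω} (hE : E ⊆ Γ) (hE' : E' ⊆ Γ) (hcard : E'.ncard = E.ncard)
    (h2 : 2 ≤ (Γ \ E).ncard) : ∃ g : G, g • E = E' := by
  classical
  haveI : Fintype ↥Γ := Fintype.ofFinite _
  -- 2-transitivity of the set stabiliser on `Γ`
  have h2tr : IsMultiplyPretransitive (stabilizer G Γ) ↥Γ 2 := by
    rw [MulAction.is_two_pretransitive_iff]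
    intro a b c d hab hcd
    obtain ⟨g₁, hg₁Γ, -, hg₁a⟩ := h2t ∅ (Set.empty_subset _) (by simp) a.1
      ⟨a.2, Set.notMem_empty _⟩ c.1 ⟨c.2, Set.notMem_empty _⟩
    have hb1 : g₁ • b.1 ∈ Γ \ {c.1} := by
      refine ⟨?_, ?_⟩
      · have h5 : g₁ • b.1 ∈ g₁ • Γ := Set.smul_mem_smul_set b.2
        rwa [hg₁Γ] at h5
      · intro h
        rw [Set.mem_singleton_iff, ← hg₁a] at h
        exact hab (Subtype.ext (MulAction.injective g₁ h)).symm
    have hd1 : d.1 ∈ Γ \ {c.1} := ⟨d.2, fun h => hcd (Subtype.ext h).symm⟩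
    obtain ⟨g₂, hg₂Γ, hg₂c, hg₂b⟩ := h2t {c.1} (Set.singleton_subset_iff.mpr c.2) (by simp)
      (g₁ • b.1) hb1 d.1 hd1
    have hmem : g₂ * g₁ ∈ stabilizer G Γ := by
      rw [MulAction.mem_stabilizer_iff, mul_smul, hg₁Γ, hg₂Γ]
    refine ⟨⟨g₂ * g₁, hmem⟩, Subtype.ext ?_, Subtype.ext ?_⟩
    · show (g₂ * g₁) • a.1 = c.1
      rw [mul_smul, hg₁a, hg₂c _ rfl]
    · show (g₂ * g₁) • b.1 = d.1
      rw [mul_smul, hg₂b]
  have hprim : IsPreprimitive (stabilizer G Γ) ↥Γ :=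
    MulAction.isPreprimitive_of_is_two_pretransitive h2tr
  obtain ⟨g, hg⟩ := h3
  -- the sets inside `Γ`
  have hs : ((Subtype.val : ↥Γ → Ω) ⁻¹' E).ncard = ((Subtype.val : ↥Γ → Ω) ⁻¹' E').ncard := by
    rw [Set.ncard_preimage_of_injective_subset_range Subtype.val_injective
        (by rw [Subtype.range_coe]; exact hE),
      Set.ncard_preimage_of_injective_subset_range Subtype.val_injective
        (by rw [Subtype.range_coe]; exact hE'), hcard]
  have hc : 2 ≤ (((Subtype.val : ↥Γ → Ω) ⁻¹' E)ᶜ).ncard := by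
    have e1 : ((Subtype.val : ↥Γ → Ω) ⁻¹' E)ᶜ = (Subtype.val : ↥Γ → Ω) ⁻¹' (Γ \ E) := by
      ext x
      simp only [Set.mem_compl_iff, Set.mem_preimage, Set.mem_sdiff, x.2, true_and]
    rw [e1, Set.ncard_preimage_of_injective_subset_range Subtype.val_injective
        (by rw [Subtype.range_coe]; exact Set.sdiff_subset)]
    exact h2
  obtain ⟨σ, hσ, hσE⟩ := alt_exists_image_eq _ _ hs hc
  obtain ⟨k, hk⟩ := exists_toPerm_eq_of_act3 hprim hg σ (Equiv.Perm.mem_alternatingGroup.mp hσ)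
  refine ⟨(k : G), ?_⟩
  apply Set.eq_of_subset_of_ncard_le
  · rintro y ⟨e, he, rfl⟩
    have h1 : σ ⟨e, hE he⟩ ∈ (Subtype.val : ↥Γ → Ω) ⁻¹' E' := by
      rw [← hσE]
      exact ⟨⟨e, hE he⟩, he, rfl⟩
    have h4 : ((σ ⟨e, hE he⟩ : ↥Γ) : Ω) = (k : G) • e := by
      rw [← hk, MulAction.toPerm_apply]
      rfl
    rw [Set.mem_preimage, h4] at h1
    exact h1
  · rw [Set.ncard_smul_set, hcard]
  · exact Set.toFinite _

end Cfsg.Agent.Lib.Helper62.Marg
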