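import Mathlib

/-!
Project OTIF (helper86, for S5673), piece OT5a: a similitude of a nondegenerate symmetric
`3 × 3` form over the field with three elements whose 13-th power is trivial, is trivial.
-/

set_option autoImplicit false

namespace Cfsg.Agent.Lib.Helper42.OT5a

open Matrix

variable {F : Type*} [Field F] [Fintype F]

/-- PIECE OT5a -/
theorem OT5a (hq3 : Fintype.card F = 3) (G : Matrix (Fin 3) (Fin 3) F) (hdet : G.det ≠ 0)
    (hsymm : Gᵀ = G) (g : GL (Fin 3) F) (μ : F) (hμ : μ ≠ 0)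
    (hg : g.1ᵀ * G * g.1 = μ • G) (h13 : g ^ 13 = 1) : g = 1 := by
  classical
  have hμ2 : μ ^ 2 = 1 := by
    have := FiniteField.pow_card_sub_one_eq_one μ hμ
    rwa [hq3] at this
  have h3F : (3 : F) = 0 := by
    have := Nat.cast_card_eq_zero F
    rw [hq3] at this
    exact_mod_cast this
  have h2F : (2 : F) ≠ 0 := by
    intro h
    have : (1 : F) = 0 := by linear_combination h3F - h
    exact one_ne_zero this
  -- h := g ^ 2 is an isometry
  have hh1 : (g ^ 2).1 = g.1 * g.1 := by rw [pow_two]; rfl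
  have hhG : (g ^ 2).1ᵀ * G * (g ^ 2).1 = G := by
    rw [hh1, Matrix.transpose_mul]
    calc g.1ᵀ * g.1ᵀ * G * (g.1 * g.1) = g.1ᵀ * (g.1ᵀ * G * g.1) * g.1 := by
          simp only [Matrix.mul_assoc]
      _ = g.1ᵀ * (μ • G) * g.1 := by rw [hg]
      _ = μ • (g.1ᵀ * G * g.1) := by rw [Matrix.mul_smul, Matrix.smul_mul]
      _ = μ • (μ • G) := by rw [hg]
      _ = G := by rw [smul_smul, ← pow_two, hμ2, one_smul]
  obtain ⟨h, hh⟩ : ∃ h : GL (Fin 3) F, h = g ^ 2 := ⟨_, rfl⟩
  rw [← hh] at hhG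
  obtain ⟨ε, hε⟩ : ∃ ε : F, ε = h.1.det := ⟨_, rfl⟩
  have hε2 : ε * ε = 1 := by
    have := congrArg Matrix.det hhG
    rw [Matrix.det_mul, Matrix.det_mul, Matrix.det_transpose, ← hε] at this
    have h2 : (ε * ε - 1) * G.det = 0 := by linear_combination this
    rcases mul_eq_zero.mp h2 with h3 | h3
    · linear_combination h3
    · exact absurd h3 hdet
  have hε0 : ε ≠ 0 := by
    intro h0
    rw [h0, mul_zero] at hε2
    exact zero_ne_one hε2
  obtain ⟨N, hN⟩ : ∃ N : Matrix (Fin 3) (Fin 3) F, N = h.1 - ε • 1 := ⟨_, rfl⟩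
  have hid : h.1ᵀ * G * N = (-ε) • (Nᵀ * G) := by
    have e1 : h.1ᵀ * G * N = G - ε • (h.1ᵀ * G) := by
      rw [hN, Matrix.mul_sub, hhG, Matrix.mul_smul, Matrix.mul_one]
    have e2 : Nᵀ * G = h.1ᵀ * G - ε • G := by
      rw [hN, Matrix.transpose_sub, Matrix.transpose_smul, Matrix.transpose_one, Matrix.sub_mul,
        Matrix.smul_mul, Matrix.one_mul]
    rw [e1, e2, smul_sub, smul_smul, show -ε * ε = -1 by linear_combination -hε2]
    rw [neg_smul, neg_smul, one_smul]
    abel
  have hNdet : N.det = 0 := by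
    have := congrArg Matrix.det hid
    rw [Matrix.det_mul, Matrix.det_mul, Matrix.det_transpose, ← hε, Matrix.det_smul,
      Matrix.det_mul, Matrix.det_transpose, Fintype.card_fin] at this
    have h2 : 2 * ε * G.det * N.det = 0 := by
      linear_combination this + (- ε * N.det * G.det) * hε2
    rcases mul_eq_zero.mp h2 with h3 | h3
    · rcases mul_eq_zero.mp h3 with h4 | h4
      · rcases mul_eq_zero.mp h4 with h5 | h5
        · exact absurd h5 h2F
        · exact absurd h5 hε0
      · exact absurd h4 hdet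
    · exact h3
  obtain ⟨w, hw0, hw⟩ := (Matrix.exists_mulVec_eq_zero_iff (M := N)).mpr hNdet
  have hhw : h.1 *ᵥ w = ε • w := by
    rw [hN, Matrix.sub_mulVec, Matrix.smul_mulVec, Matrix.one_mulVec, sub_eq_zero] at hw
    exact hw
  -- k := h ^ 2 fixes w
  obtain ⟨k, hk⟩ : ∃ k : GL (Fin 3) F, k = h ^ 2 := ⟨_, rfl⟩
  have hk1 : k.1 = h.1 * h.1 := by rw [hk, pow_two]; rfl
  have hkw : k.1 *ᵥ w = w := by
    rw [hk1, ← Matrix.mulVec_mulVec, hhw, Matrix.mulVec_smul, hhw, smul_smul, hε2, one_smul]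
  have hk13 : k ^ 13 = 1 := by
    have e : k = g ^ 4 := by rw [hk, hh, ← pow_mul]
    rw [e, ← pow_mul, show 4 * 13 = 13 * 4 by norm_num, pow_mul, h13, one_pow]
  -- counting fixed points
  let f : Function.End (Fin 3 → F) := fun v => k.1 *ᵥ v
  have hfpow : ∀ n : ℕ, ∀ v, (f ^ n) v = (k ^ n).1 *ᵥ v := by
    intro n
    induction n with
    | zero =>
      intro v
      rw [pow_zero, pow_zero]
      change v = (1 : Matrix (Fin 3) (Fin 3) F) *ᵥ v
      rw [Matrix.one_mulVec]
    | succ n ih =>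
      intro v
      rw [pow_succ, pow_succ]
      change (f ^ n) (f v) = _
      rw [ih]
      change (k ^ n).1 *ᵥ (k.1 *ᵥ v) = ((k ^ n).1 * k.1) *ᵥ v
      rw [Matrix.mulVec_mulVec]
  have hf13 : f ^ 13 ^ 1 = 1 := by
    funext v
    rw [pow_one, hfpow, hk13]
    change (1 : Matrix (Fin 3) (Fin 3) F) *ᵥ v = v
    rw [Matrix.one_mulVec]
  have : Fact (Nat.Prime 13) := ⟨by norm_num⟩
  have hmod := Equiv.Perm.card_fixedPoints_modEq (p := 13) (n := 1) hf13
  -- the fixed subspace
  let W : Submodule F (Fin 3 → F) := LinearMap.ker (Matrix.toLin' (k.1 - 1))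
  have hWmem : ∀ v, v ∈ W ↔ k.1 *ᵥ v = v := by
    intro v
    rw [LinearMap.mem_ker, Matrix.toLin'_apply, Matrix.sub_mulVec, Matrix.one_mulVec, sub_eq_zero]
  have hcardeq : Fintype.card (Function.fixedPoints f) = Fintype.card W := by
    apply Fintype.card_congr
    refine ⟨fun v => ⟨v.1, (hWmem v.1).mpr v.2⟩, fun v => ⟨v.1, (hWmem v.1).mp v.2⟩, ?_, ?_⟩
    · intro v; rfl
    · intro v; rfl
  have hcardW : Fintype.card W = 3 ^ Module.finrank F W := by
    rw [Module.card_eq_pow_finrank (K := F) (V := W), hq3]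
  have hcardV : Fintype.card (Fin 3 → F) = 27 := by
    rw [Fintype.card_fun, hq3, Fintype.card_fin]; norm_num
  have hle : Module.finrank F W ≤ 3 := by
    have := Submodule.finrank_le W
    rwa [Module.finrank_fin_fun] at this
  have hpos : 0 < Module.finrank F W := by
    rw [Module.finrank_pos_iff_exists_ne_zero]
    refine ⟨⟨w, (hWmem w).mpr hkw⟩, ?_⟩
    intro h0
    exact hw0 (congrArg Subtype.val h0)
  rw [hcardeq, hcardW, hcardV] at hmod
  have hfr : Module.finrank F W = 3 := by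
    have : Module.finrank F W = 1 ∨ Module.finrank F W = 2 ∨ Module.finrank F W = 3 := by omega
    rcases this with h1 | h1 | h1
    · rw [h1] at hmod; exact absurd hmod (by decide)
    · rw [h1] at hmod; exact absurd hmod (by decide)
    · exact h1
  have hWtop : W = ⊤ := by
    apply Submodule.eq_top_of_finrank_eq
    rw [hfr, Module.finrank_fin_fun]
  have hk1' : k.1 = 1 := by
    apply Matrix.toLin'.injective
    apply LinearMap.ext
    intro v
    have hv : v ∈ W := by rw [hWtop]; exact Submodule.mem_top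
    rw [Matrix.toLin'_apply, Matrix.toLin'_one, LinearMap.id_apply]
    exact (hWmem v).mp hv
  have hkone : k = 1 := Units.ext hk1'
  have hg4 : g ^ 4 = 1 := by
    rw [← hkone, hk, hh, ← pow_mul]
  have : g ^ 13 = (g ^ 4) ^ 3 * g := by rw [← pow_mul, ← pow_succ]
  rw [hg4, one_pow, one_mul] at this
  rw [← this, h13]

end Cfsg.Agent.Lib.Helper42.OT5a
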