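import Cfsg.Agent.Lib.Helper42.PeMODFIX
import Cfsg.Agent.Lib.Helper33.H74EXR
import Cfsg.Agent.Lib.Helper19.H74BLKE
import Cfsg.Agent.Lib.Helper9.H74BLKO

/-!
Project PE (helper96, for S5988), piece MODFIX, verbatim form: `model_fix`, from
`model_fix_of_exr` and the landed H74 pieces `rnd_exists_of` (helper33), `blk_even`, `blk_odd`
(helper19, helper9; the same modules as in `Helper98.H74Of`).
-/

set_option autoImplicit false
set_option linter.unusedSectionVars false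
set_option linter.unusedVariables false

namespace Cfsg.Agent.Lib.Helper42.Pe

universe u

open Cfsg.Agent.Lib.Helper47 Cfsg.Agent.Lib.Helper98.T73 Cfsg.Agent.Lib.Helper98.H74 Module

variable {F : Type u} [Field F] [Fintype F] {V : Type u} [AddCommGroup V] [Module F V]
  [FiniteDimensional F V] {Q : V → F} {B : V → V → F}

-- PIECE MODFIX
theorem model_fix (hf : QFacts F) (hQ : IsQuad Q B) (hnd : Nondeg B) (d : ℕ) (hd : 2 ≤ d)
    (hdim : finrank F V = 2 * d) (ε : ℤ) (hε : ε = 1 ∨ ε = -1) (htyp : IsTyp Q (d - 1) ε)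
    (p : ℕ) [Fact p.Prime] [CharP F p] (r : ℕ) (hr : r.Prime) (hr2 : r ≠ 2) (hrp : r ≠ p)
    (k : ℕ) (τ : ℤ) (hτ : τ = 1 ∨ τ = -1) (hk : k + 2 ≤ d)
    (hM : ModelH ε τ (orderOf ((Fintype.card F : ℕ) : ZMod r)) d (2 * k + 2))
    (g : Module.End F V) (hgQ : QI Q g) (hg : g ^ r = 1) (hg1 : g ≠ 1) :
    ∃ W : Submodule F V, SubTyp Q B W k τ ∧ W.map g ≤ W := by
  refine model_fix_of_exr hf hQ hnd d hd hdim ε hε htyp p r hr hr2 hrp k τ hτ hk hM ?_
    g hgQ hg hg1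
  intro V' _ _ _ Q' B' hQ' hnd' p' _ _ r' hr' hr2' hrp' g' hgQ' hg' j hj hjo
  exact rnd_exists_of hQ' hnd' p' r' hr' hrp' g' hgQ' hg'
    (fun hE W h1 h2 h3 h4 => blk_even hQ' hnd' p' r' hr' hr2' hrp' g' hgQ' hg' hE W h1 h2 h3 h4)
    (fun hO W h1 h2 h3 h4 => blk_odd hQ' hnd' p' r' hr' hr2' hrp' g' hgQ' hg' hO W h1 h2 h3 h4)
    j hj hjo

end Cfsg.Agent.Lib.Helper42.Pe
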