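import Mathlib
import Cfsg.Agent.Lib.Helper11.S983Defs
import Cfsg.Agent.Lib.Helper54.S983T3
import Cfsg.Agent.Lib.Helper23.Syl
import Cfsg.Agent.Lib.Helper76.SylPrime
import Cfsg.Agent.Lib.Helper76.N22Count

/-!
# S0983, piece N5400B (helper42, for helper11): the counting contradiction for order 5400

Given the local analysis of piece N5400A as a hypothesis (a nonidentity element of a Sylow
5-subgroup lies in exactly 1 or 6 Sylow 5-subgroups, and in the latter case its centralizer meets
the normalizer of the Sylow subgroup in a group of order 50), Burnside's orbit count for a Sylow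
5-subgroup acting on the 36 Sylow 5-subgroups gives a contradiction.
-/

set_option autoImplicit false
set_option linter.unusedSectionVars false
set_option linter.style.haveILetI false

namespace Cfsg.Agent.S983

open Subgroup

set_option maxRecDepth 100000 in
theorem n5400b_cands : candsPow 5400 5 2 = [36] := by decide +kernel

section

variable {G : Type*} [Group G] [Finite G]

theorem n5400b_mem_smul {p : ℕ} [Fact p.Prime] (y z : G) (R : Sylow p G) :
    z ∈ ((y • R : Sylow p G) : Subgroup G) ↔ y⁻¹ * z * y ∈ (R : Subgroup G) := by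
  rw [Sylow.smul_def, Sylow.pointwise_smul_def, Subgroup.mem_pointwise_smul_iff_inv_smul_mem,
    MulAut.smul_def, MulAut.conj_inv_apply]

/-- the Sylow subgroups fixed by an element `x` of a Sylow subgroup are those containing `x` -/
theorem n5400b_fixedBy {p : ℕ} [Fact p.Prime] (P : Sylow p G) (x : (P : Subgroup G)) :
    MulAction.fixedBy (Sylow p G) x = {R : Sylow p G | (x : G) ∈ (R : Subgroup G)} := by
  ext R
  show (x • R = R) ↔ (x : G) ∈ (R : Subgroup G)
  rw [Subgroup.smul_def, Sylow.smul_eq_iff_mem_normalizer]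
  constructor
  · intro hx
    have h1 : (x : G) ∈ (P : Subgroup G) ⊓ normalizer R := Subgroup.mem_inf.mpr ⟨x.2, hx⟩
    rw [P.isPGroup'.inf_normalizer_sylow R] at h1
    exact (Subgroup.mem_inf.mp h1).2
  · intro hx
    exact le_normalizer hx

/-- (i) Burnside's orbit count -/
theorem n5400b_burnside [Fact (Nat.Prime 5)] (P : Sylow 5 G)
    (hP : Nat.card (P : Subgroup G) = 25) (hn : Nat.card (Sylow 5 G) = 36)
    (hloc : ∀ x : G, x ∈ (P : Subgroup G) → x ≠ 1 →
      {R : Sylow 5 G | x ∈ (R : Subgroup G)}.ncard = 1 ∨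
        {R : Sylow 5 G | x ∈ (R : Subgroup G)}.ncard = 6) :
    25 ∣ 60 + 5 * {x : G | x ∈ (P : Subgroup G) ∧ x ≠ 1 ∧
      {R : Sylow 5 G | x ∈ (R : Subgroup G)}.ncard = 6}.ncard := by
  classical
  letI : Fintype (P : Subgroup G) := Fintype.ofFinite _
  letI : Fintype (Sylow 5 G) := Fintype.ofFinite _
  letI : Fintype (MulAction.orbitRel.Quotient (P : Subgroup G) (Sylow 5 G)) := Fintype.ofFinite _
  letI : ∀ a : (P : Subgroup G), Fintype (MulAction.fixedBy (Sylow 5 G) a) :=
    fun a => Fintype.ofFinite _
  have hb := MulAction.sum_card_fixedBy_eq_card_orbits_mul_card_group (P : Subgroup G) (Sylow 5 G)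
  set S : Set G := {x : G | x ∈ (P : Subgroup G) ∧ x ≠ 1 ∧
      {R : Sylow 5 G | x ∈ (R : Subgroup G)}.ncard = 6} with hS
  have hval : ∀ a : (P : Subgroup G), Fintype.card (MulAction.fixedBy (Sylow 5 G) a) =
      1 + (if a = 1 then 35 else 0) + 5 * (if (a : G) ∈ S then 1 else 0) := by
    intro a
    rw [← Nat.card_eq_fintype_card, Nat.card_coe_set_eq, n5400b_fixedBy P a]
    by_cases ha : a = 1
    · subst ha
      have h1 : ((1 : (P : Subgroup G)) : G) ∉ S := fun h => h.2.1 rfl
      have h2 : {R : Sylow 5 G | ((1 : (P : Subgroup G)) : G) ∈ (R : Subgroup G)} = Set.univ := by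
        ext R
        simp
      rw [if_pos rfl, if_neg h1, h2, Set.ncard_univ, hn]
    · have ha' : (a : G) ≠ 1 := fun h => ha (Subtype.ext h)
      rw [if_neg ha]
      rcases hloc a a.2 ha' with h1 | h6
      · have hnot : (a : G) ∉ S := fun h => by
          have h6 := h.2.2
          rw [h1] at h6
          omega
        rw [if_neg hnot, h1]
      · have hin : (a : G) ∈ S := ⟨a.2, ha', h6⟩
        rw [if_pos hin, h6]
  have hcard : (Finset.univ.filter (fun a : (P : Subgroup G) => (a : G) ∈ S)).card = S.ncard := by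
    have himg : (Subtype.val '' {a : (P : Subgroup G) | (a : G) ∈ S}) = S := by
      ext x
      constructor
      · rintro ⟨a, ha, rfl⟩
        exact ha
      · intro hx
        exact ⟨⟨x, hx.1⟩, hx, rfl⟩
    calc (Finset.univ.filter (fun a : (P : Subgroup G) => (a : G) ∈ S)).card
        = {a : (P : Subgroup G) | (a : G) ∈ S}.ncard := by
          rw [← Set.ncard_coe_finset]
          congr 1
          ext a
          simp
      _ = (Subtype.val '' {a : (P : Subgroup G) | (a : G) ∈ S}).ncard :=
          (Set.ncard_image_of_injective _ Subtype.val_injective).symm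
      _ = S.ncard := by rw [himg]
  have hP' : Fintype.card (P : Subgroup G) = 25 := by
    rw [← Nat.card_eq_fintype_card]
    exact hP
  rw [Finset.sum_congr rfl (fun a _ => hval a), Finset.sum_add_distrib, Finset.sum_add_distrib,
    Finset.sum_const, Finset.card_univ, smul_eq_mul, mul_one, Finset.sum_ite_eq' Finset.univ 1,
    ← Finset.mul_sum, Finset.sum_boole, hcard, hP'] at hb
  simp only [Finset.mem_univ, if_true, Nat.cast_id] at hb
  obtain ⟨k, hk⟩ : ∃ k, k = Fintype.card (Quotient (MulAction.orbitRel (P : Subgroup G) (Sylow 5 G))) :=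
    ⟨_, rfl⟩
  rw [← hk] at hb
  exact ⟨k, by omega⟩

/-- (ii) the elements lying in six Sylow subgroups come in batches of four -/
theorem n5400b_four_dvd [Fact (Nat.Prime 5)] (P : Sylow 5 G)
    (hP : Nat.card (P : Subgroup G) = 25) :
    4 ∣ {x : G | x ∈ (P : Subgroup G) ∧ x ≠ 1 ∧
      {R : Sylow 5 G | x ∈ (R : Subgroup G)}.ncard = 6}.ncard := by
  set S : Set G := {x : G | x ∈ (P : Subgroup G) ∧ x ≠ 1 ∧
      {R : Sylow 5 G | x ∈ (R : Subgroup G)}.ncard = 6} with hS
  have key : ∀ a ∈ S, {b | b ∈ S ∧ zpowers b = zpowers a}.ncard = 4 := by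
    intro a ha
    obtain ⟨haP, ha1, ha6⟩ := ha
    have hord : orderOf a = 5 := by
      have hdvd : orderOf a ∣ 5 ^ 2 := by
        have h0 := Subgroup.orderOf_dvd_natCard (P : Subgroup G) haP
        rw [hP] at h0
        exact h0
      rcases (Nat.dvd_prime_pow Nat.prime_five).mp hdvd with ⟨k, hk, hk'⟩
      interval_cases k
      · exfalso
        rw [pow_zero] at hk'
        exact ha1 (orderOf_eq_one_iff.mp hk')
      · rw [hk', pow_one]
      · exfalso
        have hz : zpowers a = (P : Subgroup G) := by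
          apply Subgroup.eq_of_le_of_card_ge ((zpowers_le).mpr haP)
          rw [Nat.card_zpowers, hk', hP]
          norm_num
        have hF : {R : Sylow 5 G | a ∈ (R : Subgroup G)} = {P} := by
          ext R
          simp only [Set.mem_ofPred_eq, Set.mem_singleton_iff]
          constructor
          · intro hR
            have hle : (P : Subgroup G) ≤ (R : Subgroup G) := by
              rw [← hz]
              exact (zpowers_le).mpr hR
            exact Sylow.ext (P.is_maximal' R.isPGroup' hle)
          · rintro rfl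
            exact haP
        rw [hF, Set.ncard_singleton] at ha6
        omega
    have hset : {b | b ∈ S ∧ zpowers b = zpowers a} = ((zpowers a : Subgroup G) : Set G) \ {1} := by
      ext y
      constructor
      · rintro ⟨hyS, hyz⟩
        refine ⟨?_, hyS.2.1⟩
        rw [SetLike.mem_coe, ← hyz]
        exact mem_zpowers y
      · rintro ⟨hy, hy1⟩
        have hy' : y ∈ zpowers a := hy
        have hy1' : y ≠ 1 := by simpa using hy1
        have hyz : zpowers y = zpowers a := by
          apply Subgroup.eq_of_le_of_card_ge ((zpowers_le).mpr hy')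
          rw [Nat.card_zpowers, Nat.card_zpowers, hord]
          have h5 : orderOf y ∣ 5 := by
            have h0 := Subgroup.orderOf_dvd_natCard (zpowers a) hy'
            rwa [Nat.card_zpowers, hord] at h0
          rcases (Nat.dvd_prime Nat.prime_five).mp h5 with h | h
          · exact absurd (orderOf_eq_one_iff.mp h) hy1'
          · rw [h]
        refine ⟨⟨(zpowers_le.mpr haP) hy', hy1', ?_⟩, hyz⟩
        have hFF : {R : Sylow 5 G | y ∈ (R : Subgroup G)} =
            {R : Sylow 5 G | a ∈ (R : Subgroup G)} := by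
          ext R
          simp only [Set.mem_ofPred_eq]
          rw [← zpowers_le (g := y), ← zpowers_le (g := a), hyz]
        rw [hFF]
        exact ha6
    have hz5 : ((zpowers a : Subgroup G) : Set G).ncard = 5 := by
      rw [← Nat.card_coe_set_eq]
      exact (Nat.card_zpowers a).trans hord
    rw [hset, Set.ncard_sdiff_singleton_of_mem (one_mem _), hz5]
  exact ⟨_, Cfsg.Agent.Lib.Helper76.N22.ncard_eq_mul_of_fibers S (fun y => zpowers y) 4 key⟩

/-- (iii) an element of order 3 of the normalizer acts without fixed points -/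
theorem n5400b_three_dvd [Fact (Nat.Prime 5)] (P : Sylow 5 G)
    (hN : Nat.card (normalizer ((P : Subgroup G) : Set G)) = 150)
    (hloc : ∀ x : G, x ∈ (P : Subgroup G) → x ≠ 1 →
      {R : Sylow 5 G | x ∈ (R : Subgroup G)}.ncard = 6 →
        Nat.card (centralizer ({x} : Set G) ⊓ normalizer ((P : Subgroup G) : Set G) :
          Subgroup G) = 50) :
    3 ∣ {x : G | x ∈ (P : Subgroup G) ∧ x ≠ 1 ∧
      {R : Sylow 5 G | x ∈ (R : Subgroup G)}.ncard = 6}.ncard := by
  set S : Set G := {x : G | x ∈ (P : Subgroup G) ∧ x ≠ 1 ∧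
      {R : Sylow 5 G | x ∈ (R : Subgroup G)}.ncard = 6} with hS
  haveI : Fact (Nat.Prime 3) := ⟨Nat.prime_three⟩
  obtain ⟨y, hyN, hy1, hy3⟩ := Cfsg.Agent.Lib.Helper76.SylPrime.exists_mem_pow_eq_one
    (normalizer ((P : Subgroup G) : Set G)) 3 (by rw [hN]; norm_num)
  have hinv : ∀ x ∈ S, ConjAct.toConjAct y • x ∈ S := by
    rintro x ⟨hxP, hx1, hx6⟩
    rw [ConjAct.smul_def, ConjAct.ofConjAct_toConjAct]
    refine ⟨?_, ?_, ?_⟩
    · exact (mem_normalizer_iff.mp hyN x).mp hxP
    · intro h
      apply hx1
      have h' := congrArg (fun z => y⁻¹ * z * y) h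
      simpa [mul_assoc] using h'
    · have himg : {R : Sylow 5 G | y * x * y⁻¹ ∈ (R : Subgroup G)} =
          (fun R : Sylow 5 G => y • R) '' {R : Sylow 5 G | x ∈ (R : Subgroup G)} := by
        ext R
        constructor
        · intro hR
          refine ⟨y⁻¹ • R, ?_, by simp⟩
          show x ∈ ((y⁻¹ • R : Sylow 5 G) : Subgroup G)
          rw [n5400b_mem_smul, inv_inv]
          exact hR
        · rintro ⟨R', hR', rfl⟩
          show y * x * y⁻¹ ∈ ((y • R' : Sylow 5 G) : Subgroup G)
          rw [n5400b_mem_smul]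
          have he : y⁻¹ * (y * x * y⁻¹) * y = x := by group
          rw [he]
          exact hR'
      rw [himg, Set.ncard_image_of_injective _ (MulAction.injective y)]
      exact hx6
  have hpow : ConjAct.toConjAct y ^ 3 ^ 1 = 1 := by
    rw [pow_one, ← map_pow, hy3, map_one]
  have hmod := Cfsg.Agent.Lib.Helper76.N22.card_modEq_fixedBy (Ω := G) 3 (ConjAct.toConjAct y) 1
    hpow S hinv
  have hempty : S ∩ MulAction.fixedBy G (ConjAct.toConjAct y) = ∅ := by
    rw [Set.eq_empty_iff_forall_notMem]
    rintro x ⟨⟨hxP, hx1, hx6⟩, hfix⟩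
    rw [MulAction.mem_fixedBy, ConjAct.smul_def, ConjAct.ofConjAct_toConjAct] at hfix
    have hyC : y ∈ centralizer ({x} : Set G) ⊓ normalizer ((P : Subgroup G) : Set G) := by
      refine Subgroup.mem_inf.mpr ⟨?_, hyN⟩
      rw [Subgroup.mem_centralizer_iff]
      intro z hz
      rw [Set.mem_singleton_iff] at hz
      subst hz
      have h' := congrArg (fun w => w * y) hfix
      simp only [inv_mul_cancel_right] at h'
      exact h'.symm
    have h3 := Cfsg.Agent.Lib.Helper76.SylPrime.dvd_card_of_mem _ 3 y hyC hy1 hy3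
    rw [hloc x hxP hx1 hx6] at h3
    omega
  rw [hempty, Set.ncard_empty] at hmod
  exact (Nat.modEq_zero_iff_dvd).mp hmod

end

/-- piece N5400B -/
theorem n5400_count {G : Type*} [Group G] [Finite G] [IsSimpleGroup G] (h : Nat.card G = 5400)
    [Fact (Nat.Prime 5)]
    (hloc : ∀ (Q : Sylow 5 G) (x : G), x ∈ (Q : Subgroup G) → x ≠ 1 →
      ({R : Sylow 5 G | x ∈ (R : Subgroup G)}.ncard = 1 ∨
       ({R : Sylow 5 G | x ∈ (R : Subgroup G)}.ncard = 6 ∧
        Nat.card (Subgroup.centralizer ({x} : Set G) ⊓
          Subgroup.normalizer ((Q : Subgroup G) : Set G) : Subgroup G) = 50))) : False := by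
  have hG : ¬ IsMulCommutative G :=
    Cfsg.Agent.Lib.Helper23.not_comm_of_simple_of_not_prime (by rw [h]; norm_num)
  have hn : Nat.card (Sylow 5 G) = 36 := by
    have h0 := mem_candsPow hG (N := 5400) (p := 5) (a := 2) (m := 216) h (by norm_num)
      (by norm_num) le_rfl
    rw [n5400b_cands] at h0
    simpa using h0
  obtain ⟨P⟩ : Nonempty (Sylow 5 G) := inferInstance
  have hP : Nat.card (P : Subgroup G) = 25 := by
    have h0 := Cfsg.Agent.Lib.Helper23.sylow_card_of_eq (p := 5) (k := 2) (m := 216)
      (by rw [h]; norm_num) (by norm_num) P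
    rw [h0]
    norm_num
  have hN : Nat.card (normalizer ((P : Subgroup G) : Set G)) = 150 := by
    have h0 := Cfsg.Agent.Lib.Helper23.card_normalizer_sylow_mul P
    rw [hn, h] at h0
    omega
  have h1 := n5400b_burnside P hP hn (fun x hx hx1 => (hloc P x hx hx1).imp id And.left)
  have h2 := n5400b_four_dvd P hP
  have h3 := n5400b_three_dvd P hN (fun x hx hx1 hx6 => by
    rcases hloc P x hx hx1 with h' | h'
    · rw [h'] at hx6
      omega
    · exact h'.2)
  have h4 : {x : G | x ∈ (P : Subgroup G) ∧ x ≠ 1 ∧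
      {R : Sylow 5 G | x ∈ (R : Subgroup G)}.ncard = 6}.ncard ≤ 24 := by
    have hsub : {x : G | x ∈ (P : Subgroup G) ∧ x ≠ 1 ∧
        {R : Sylow 5 G | x ∈ (R : Subgroup G)}.ncard = 6} ⊆
        (((P : Subgroup G) : Set G) \ {1}) := by
      intro x hx
      exact ⟨hx.1, by simpa using hx.2.1⟩
    have hle := Set.ncard_le_ncard hsub (Set.toFinite _)
    have hP25 : (((P : Subgroup G) : Set G)).ncard = 25 := by
      rw [← Nat.card_coe_set_eq]
      exact hP
    rw [Set.ncard_sdiff_singleton_of_mem (one_mem _), hP25] at hle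
    exact hle
  generalize {x : G | x ∈ (P : Subgroup G) ∧ x ≠ 1 ∧
      {R : Sylow 5 G | x ∈ (R : Subgroup G)}.ncard = 6}.ncard = b at h1 h2 h3 h4
  omega

end Cfsg.Agent.S983
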