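import Cfsg.Agent.Lib.Helper4.TPDefs

/-!
# Project TP (S4033), piece RT1A (for helper4)

A normal noncentral `t`-subgroup `B` has `|B : B ⊓ Cen w| = t` for every noncentral `p`-regular `w`.
-/

set_option autoImplicit false

namespace Cfsg.Agent.Lib.Helper4.TP

universe u

/-- elements of a `t`-group are `p`-regular for `p ≠ t` -/
theorem rt1a_helper42_preg {G : Type u} [Group G] {p t : ℕ} (hp : p.Prime) (ht : t.Prime)
    (htp : t ≠ p) {H : Subgroup G} (hH : IsPGroup t H) {g : G} (hg : g ∈ H) : PReg p g := by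
  obtain ⟨k, hk⟩ := hH ⟨g, hg⟩
  have h1 : g ^ t ^ k = 1 := by
    have h0 := congrArg Subtype.val hk
    simpa using h0
  have h2 : orderOf g ∣ t ^ k := orderOf_dvd_of_pow_eq_one h1
  have h3 : (t ^ k).Coprime p := Nat.Coprime.pow_left k ((Nat.coprime_primes ht hp).mpr htp)
  exact Nat.Coprime.coprime_dvd_left h2 h3

theorem rt1a_helper42_mem_cen {G : Type u} [Group G] (x c : G) :
    c ∈ Cen x ↔ x * c = c * x := by
  rw [Subgroup.mem_centralizer_iff]
  simp

theorem rt1a_helper42_mem_cen_conj {G : Type u} [Group G] (u k c : G) :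
    c ∈ Cen (k * u * k⁻¹) ↔ k⁻¹ * c * k ∈ Cen u := by
  rw [rt1a_helper42_mem_cen, rt1a_helper42_mem_cen]
  constructor
  · intro h
    calc u * (k⁻¹ * c * k) = k⁻¹ * ((k * u * k⁻¹) * c) * k := by group
      _ = k⁻¹ * (c * (k * u * k⁻¹)) * k := by rw [h]
      _ = k⁻¹ * c * k * u := by group
  · intro h
    calc k * u * k⁻¹ * c = k * (u * (k⁻¹ * c * k)) * k⁻¹ := by group
      _ = k * (k⁻¹ * c * k * u) * k⁻¹ := by rw [h]
      _ = c * (k * u * k⁻¹) := by group

theorem rt1a : ConjStmt.{u} → RT1aStmt.{u} := by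
  intro hconj G _ _ p m t hp hH hA1 ht htp T y x hyT hyZ hidx htrans B hBn hBt hBZ
  have hyNC : NC p y := ⟨rt1a_helper42_preg hp ht htp T.isPGroup' hyT, hyZ⟩
  have hA1eq : ∀ g w : G, NC p g → NC p w → w ∈ Cen g → Cen g = Cen w := by
    intro g w hg hw hmem
    refine le_antisymm (hA1 g w hg hw.1 hmem) (hA1 w g hw hg.1 ?_)
    rw [rt1a_helper42_mem_cen] at hmem ⊢
    exact hmem.symm
  have hBT : B ≤ (T : Subgroup G) := by
    have := hBn
    exact hBt.le_sylow_of_normal T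
  have hkey : ¬ B ≤ Cen y := by
    intro hBy
    obtain ⟨b, hbB, hbZ⟩ := SetLike.not_le_iff_exists.mp hBZ
    have hconjNC : ∀ g : G, NC p (g * b * g⁻¹) := by
      intro g
      refine ⟨rt1a_helper42_preg hp ht htp hBt (hBn.conj_mem b hbB g), fun hc => hbZ ?_⟩
      have h1 := (inferInstance : (Subgroup.center G).Normal).conj_mem _ hc g⁻¹
      have h2 : g⁻¹ * (g * b * g⁻¹) * g⁻¹⁻¹ = b := by group
      rwa [h2] at h1
    have hceq : ∀ g : G, Cen y = Cen (g * b * g⁻¹) := fun g =>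
      hA1eq y _ hyNC (hconjNC g) (hBy (hBn.conj_mem b hbB g))
    have hcb : Cen y = Cen b := by
      have h1 := hceq 1
      have h2 : (1 : G) * b * (1 : G)⁻¹ = b := by group
      rwa [h2] at h1
    have hN1 : ∀ g c : G, c ∈ Cen y → g * c * g⁻¹ ∈ Cen y := by
      intro g c hc
      rw [hcb] at hc
      rw [hceq g, rt1a_helper42_mem_cen_conj]
      have h2 : g⁻¹ * (g * c * g⁻¹) * g = c := by group
      rw [h2]
      exact hc
    obtain ⟨h₀, hh₀⟩ := htrans y hyNC
    have hall : ∀ h : G, Cen (h * x * h⁻¹) = Cen y := by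
      intro h
      ext c
      have h3 : h * x * h⁻¹ = (h * h₀⁻¹) * (h₀ * x * h₀⁻¹) * (h * h₀⁻¹)⁻¹ := by group
      rw [h3, rt1a_helper42_mem_cen_conj, ← hh₀]
      constructor
      · intro hc
        have h5 := hN1 (h * h₀⁻¹) _ hc
        have h4 : h * h₀⁻¹ * ((h * h₀⁻¹)⁻¹ * c * (h * h₀⁻¹)) * (h * h₀⁻¹)⁻¹ = c := by group
        rwa [h4] at h5
      · intro hc
        have h5 := hN1 (h * h₀⁻¹)⁻¹ _ hc
        rwa [inv_inv] at h5
    have hTle : (T : Subgroup G) ≤ Cen y := by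
      intro g hg
      by_cases hgZ : g ∈ Subgroup.center G
      · exact Subgroup.center_le_centralizer _ hgZ
      · have hgNC : NC p g := ⟨rt1a_helper42_preg hp ht htp T.isPGroup' hg, hgZ⟩
        obtain ⟨h, hh⟩ := htrans g hgNC
        rw [← hall h, ← hh, rt1a_helper42_mem_cen]
    have h1 : (Cen y).relIndex (T : Subgroup G) = 1 := Subgroup.relIndex_eq_one.mpr hTle
    rw [hidx] at h1
    exact ht.one_lt.ne' h1
  have hd1 : (Cen y).relIndex B ≠ 1 := fun h => hkey (Subgroup.relIndex_eq_one.mp h)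
  have hd2 : (Cen y).relIndex B ≤ t := by
    have h1 := Subgroup.relIndex_le_of_le_right (H := Cen y) hBT
      (by rw [hidx]; exact ht.pos.ne')
    rwa [hidx] at h1
  have hd3 : ∃ i, (Cen y).relIndex B = t ^ i := by
    have : Fact t.Prime := ⟨ht⟩
    obtain ⟨j, hj⟩ := IsPGroup.iff_card.mp hBt
    have h1 : (Cen y).relIndex B ∣ t ^ j := by
      rw [← hj]
      exact Subgroup.relIndex_dvd_card _ _
    obtain ⟨i, -, hi⟩ := (Nat.dvd_prime_pow ht).mp h1
    exact ⟨i, hi⟩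
  have hdy : (Cen y).relIndex B = t := by
    obtain ⟨i, hi⟩ := hd3
    rw [hi] at hd1 hd2 ⊢
    have hi1 : i ≠ 0 := by
      rintro rfl
      exact hd1 (pow_zero t)
    have hi2 : i ≤ 1 := by
      by_contra hcon
      have h2 : t ^ 2 ≤ t ^ i := Nat.pow_le_pow_right ht.pos (by omega)
      have h3 : t < t ^ 2 := by nlinarith [ht.two_le]
      omega
    have hi3 : i = 1 := by omega
    rw [hi3, pow_one]
  intro w hw
  obtain ⟨h, hh⟩ := htrans w hw
  obtain ⟨h₀, hh₀⟩ := htrans y hyNC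
  rw [hh, hconj G B hBn x h, ← hconj G B hBn x h₀, ← hh₀]
  exact hdy

end Cfsg.Agent.Lib.Helper4.TP
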